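import Cfsg.Agent.H240.G2S.Split
import Cfsg.Agent.H210.TC.Row
import Cfsg.Agent.S1054

/-!
# S2452: a regular element of prime order of the split torus (helper237)

* `sq_of_torus` : `s ∈ T` with `ch q s ≠ 1` for all roots `q`: every nonidentity element is a product of two
  conjugates of `s`;
* `row3_F4_prime` : `F₄(q)`, a prime `r ≥ 13` divides `q - 1`;
* `row3_G2_prime` : `G₂(q)`, a prime `r ≥ 7` divides `q - 1`.
-/

set_option autoImplicit false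
set_option linter.unusedSectionVars false

namespace Cfsg.Agent.H237.FQ

open CoxeterSystem Cfsg.Agent.ChevalleyStructure.CoxeterGeom Cfsg.Agent.Tits.Roots Cfsg.Agent.Tits.Core
  Cfsg.Agent.Nodes.Reps Cfsg.Agent.Nodes.BNOf Cfsg.Agent.Nodes.RGDLib Cfsg.Agent.Nodes.Bruhat
  Cfsg.Agent.Nodes.OppDec Cfsg.Agent.Nodes.LeviDec Cfsg.Agent.Nodes.KindChev Cfsg.Agent.Nodes.ChevCls
  Cfsg.Agent.OddHalf.NI.ModelChev Cfsg.Agent.Nodes.StabComb
  Cfsg.Agent.H162.GaussDec Cfsg.Agent.H162.GaussLevi Cfsg.Agent.H162.GaussSL Cfsg.Agent.H162.GaussReg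
  Cfsg.Agent.H162.GaussPQ
  Cfsg.Agent.H928.Ore.Frame Cfsg.Agent.H928.Ore.Fix
open Cfsg.Lie Cfsg.Agent.ChevalleyStructure Cfsg.Agent.ChevalleyStructure.Elts
  Cfsg.Agent.ChevalleyStructure.RootVec Cfsg.Agent.ChevalleyStructure.NPerm
  Cfsg.Agent.ChevalleyStructure.CoxeterGeomTypes Cfsg.Agent.Nodes.RGDChev Cfsg.Agent.KFacts.RgdChevCoord
open Cfsg.Agent.H122.Pw Cfsg.Agent.H777.T6 Cfsg.Agent.H240.E8S Cfsg.Agent.H240.G2S
open Cfsg.Agent.H162.GaussExc (coord)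
open Cfsg.Agent.H482.Ore.Fix (Dz ch_mul)
open Cfsg.Agent.H210.TC (Row3 cube_of_sq)

universe u

section

variable {D : ChevalleyDatum} {l : ℕ} {M : CoxeterMatrix (Fin l)} (hp : IsType D l M) {K : Type u} [Field K]
  {J : Set (Fin l)} {G : Type*} [Group G] {φ : G →* ↥(D.group K)} {L U : Subgroup G} {Q : ℕ → Prop}

/-- **Two fixed classes**, explicit form of `t6_of_pc`. -/
theorem prd_of_pc [Finite K] (h : Pc hp K J φ L U Q) (hQ : ∀ q < D.nroots, (∀ k, k ∉ J → vec D l q k = 0) → Q q)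
    (hl : 0 < l) (hS : IsSimpleGroup ↥(D.group K) ∧ ¬ IsMulCommutative ↥(D.group K))
    (hM : ∀ J : Finset (Fin l), J = ∅ ∨ J = Finset.univ ∨ ∃ a ∈ J, ∃ b, b ∉ J ∧ M a b ≠ 2)
    {k x y : G} (hk : φ k ∈ TT D K)
    (hP : ∀ v ∈ L, ∀ u ∈ U, ∃ a b, v * k * u = (a * x * a⁻¹) * (b * y * b⁻¹))
    (hx : NF (VJ M.toCoxeterSystem hp.isCartan (XX D l K) J) (φ x) ∧
      NF (VNJ M.toCoxeterSystem hp.isCartan (XX D l K) J) (φ x))
    (hy : NF (VJ M.toCoxeterSystem hp.isCartan (XX D l K) J) (φ y) ∧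
      NF (VNJ M.toCoxeterSystem hp.isCartan (XX D l K) J) (φ y)) (g : ↥(D.group K)) (hg : g ≠ 1) :
    ∃ u v : ↥(D.group K), g = (u * φ x * u⁻¹) * (v * φ y * v⁻¹) := by
  obtain ⟨p, hpc⟩ := CharP.exists K
  have : Fact p.Prime := ⟨(CharP.char_is_prime_or_zero K p).resolve_right (CharP.char_ne_zero_of_finite K p)⟩
  have := finite_W hp M.toCoxeterSystem
  have : Nonempty (Fin l) := ⟨⟨0, hl⟩⟩
  have R := rgd (K := K) hp M.toCoxeterSystem p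
  obtain ⟨c₁, c₂, z, w, ⟨⟨z', hz⟩, w', hw⟩, e⟩ := Cfsg.Agent.H122.SX.pair_h (rgd (K := K) hp M.toCoxeterSystem p)
    (G1_eq_top hp _) (coord hp) (Cfsg.Agent.Nodes.ChevChart.irr_of hM) (J := J)
    (Pr := fun c₁ c₂ : ↥(D.group K) => (∃ z, c₁ = z * φ x * z⁻¹) ∧ ∃ w, c₂ = w * φ y * w⁻¹) hk
    (fun v hv u hu => by
      obtain ⟨v, hv', rfl⟩ := h.exists_lo hQ hv
      obtain ⟨u, hu', rfl⟩ := h.exists_up hQ hu
      obtain ⟨a, b, e⟩ := hP v hv' u hu'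
      refine ⟨φ (a * x * a⁻¹), φ (b * y * b⁻¹), by rw [← map_mul, ← map_mul, e, map_mul],
        ⟨h.mem _, h.mem _, ?_, ?_⟩, ⟨φ a, by rw [map_mul, map_mul, map_inv]⟩, φ b, by rw [map_mul, map_mul, map_inv]⟩
      · rw [map_mul, map_mul, map_inv]
        exact NF.conj (LJ_le_normalizer_VNJ R J (h.mem a)) hx.2
      · rw [map_mul, map_mul, map_inv]
        exact NF.conj (LJ_le_normalizer_VJ R J (h.mem b)) hy.1)
    (Cfsg.Agent.H224.Ore.Row.not_mem_core hl hS.1 p hp hg)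
  refine ⟨z * z', w * w', ?_⟩
  rw [e, hz, hw]
  group

/-- **A regular element of the split torus.** -/
theorem sq_of_torus [Finite K] (hl : 0 < l) (hS : IsSimpleGroup ↥(D.group K) ∧ ¬ IsMulCommutative ↥(D.group K))
    (hM : ∀ J : Finset (Fin l), J = ∅ ∨ J = Finset.univ ∨ ∃ a ∈ J, ∃ b, b ∉ J ∧ M a b ≠ 2)
    (h0 : ∀ q < D.nroots, ∃ k, vec D l q k ≠ 0)
    {s : ↥(D.group K)} (hs : s ∈ TT D K) (hreg : ∀ q < D.nroots, ch hp (vec D l q) s ≠ 1)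
    (g : ↥(D.group K)) (hg : g ≠ 1) : ∃ u v : ↥(D.group K), g = (u * s * u⁻¹) * (v * s * v⁻¹) := by
  obtain ⟨p, hpc⟩ := CharP.exists K
  have : Fact p.Prime := ⟨(CharP.char_is_prime_or_zero K p).resolve_right (CharP.char_ne_zero_of_finite K p)⟩
  have hnf := (Dz.torus (f := RingHom.id K) (J := (∅ : Set (Fin l))) hp hs).nf hp p fun q hq _ => hreg q hq
  refine prd_of_pc hp (pc_torus hp) (fun q hq h => ?_) hl hS hM (k := ⟨s, hs⟩ * ⟨s, hs⟩) (x := ⟨s, hs⟩) (y := ⟨s, hs⟩)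
    (by exact mul_mem hs hs) ?_ hnf hnf g hg
  · obtain ⟨k, hk⟩ := h0 q hq
    exact hk (h k (Set.notMem_empty k))
  · rintro v hv u hu
    rw [Subgroup.mem_bot] at hv hu
    exact ⟨1, 1, by rw [hv, hu]; group⟩

/-- **A regular element of prime order of the split torus.** -/
theorem row3_of_torus [Finite K] (hl : 0 < l) (hS : IsSimpleGroup ↥(D.group K) ∧ ¬ IsMulCommutative ↥(D.group K))
    (hM : ∀ J : Finset (Fin l), J = ∅ ∨ J = Finset.univ ∨ ∃ a ∈ J, ∃ b, b ∉ J ∧ M a b ≠ 2)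
    (h0 : ∀ q < D.nroots, ∃ k, vec D l q k ≠ 0) (hn : 0 < D.nroots)
    {s : ↥(D.group K)} (hs : s ∈ TT D K) (hreg : ∀ q < D.nroots, ch hp (vec D l q) s ≠ 1)
    {r : ℕ} (hr : r.Prime) (h5 : 5 ≤ r) (ho : s ^ r = 1) : Row3 ↥(D.group K) := by
  have hs1 : s ≠ 1 := by
    rintro rfl
    exact hreg 0 hn (map_one (chH hp (K := K) hn))
  have : Fact r.Prime := ⟨hr⟩
  have hor : orderOf s = r := orderOf_eq_prime ho hs1
  have h6 : Nat.Coprime r 6 := by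
    rw [hr.coprime_iff_not_dvd]
    intro h
    have := (Nat.Prime.dvd_mul hr).1 (show r ∣ 2 * 3 from h)
    rcases this with h | h <;> [have := Nat.le_of_dvd (by norm_num) h; have := Nat.le_of_dvd (by norm_num) h] <;> omega
  exact Row3.of_sq (x := s) (by rwa [hor]) (by rwa [hor]) (sq_of_torus hp hl hS hM h0 hs hreg)

end

/-- an element of order `m` of the field -/
theorem exists_unit {K : Type u} [Field K] [Finite K] {m : ℕ} (hm : m ∣ Nat.card K - 1) : ∃ ζ : Kˣ, orderOf ζ = m := by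
  obtain ⟨g, hg⟩ := IsCyclic.exists_ofOrder_eq_natCard (α := Kˣ)
  have hcu : Nat.card Kˣ = Nat.card K - 1 := Nat.card_units K
  rw [hcu] at hg
  have hK : 1 < Nat.card K := Finite.one_lt_card
  obtain ⟨k, hk⟩ := hm
  have hk0 : k ≠ 0 := by
    rintro rfl
    omega
  exact ⟨g ^ k, by
    rw [orderOf_pow_of_dvd hk0 (by rw [hg, hk]; exact dvd_mul_left _ _), hg, hk,
      Nat.mul_div_cancel _ (Nat.pos_of_ne_zero hk0)]⟩

theorem pow_unit {K : Type u} [Field K] {m : ℕ} {ζ : Kˣ} (hζ : orderOf ζ = m) (n : ℤ) : ((ζ ^ n : Kˣ) : K) ^ m = 1 := by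
  have h7 : (ζ ^ n) ^ m = 1 := by rw [← zpow_natCast, ← zpow_mul, mul_comm, zpow_mul, zpow_natCast, ← hζ,
    pow_orderOf_eq_one, one_zpow]
  rw [← Units.val_pow_eq_pow_val, h7, Units.val_one]

/-! ### `F₄(q)` -/

theorem tyF : IsType chevF4 4 CoxeterMatrix.F₄ := by simp [IsType, typeList]

theorem vecF : ∀ q < chevF4.nroots, ∃ k, vec chevF4 4 q k ≠ 0 := by decide +kernel

/-- the exponent of the character of the root `q` -/
def exF (q : ℕ) : ℤ :=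
  8 * chevF4.cartan 0 q + 15 * chevF4.cartan 1 q + (21 * chevF4.cartan 2 q + 11 * chevF4.cartan 3 q)

theorem exF_tab : ∀ q < chevF4.nroots, exF q ≠ 0 ∧ -11 ≤ exF q ∧ exF q ≤ 11 := by decide +kernel

variable {K : Type u} [Field K] [Finite K]

/-- **`F₄(q)`, split torus.** -/
theorem row3_F4_prime {r : ℕ} (hr : r.Prime) (h13 : 13 ≤ r) (hd : r ∣ Nat.card K - 1) :
    Row3 ↥(chevF4.group K) := by
  have hS := Cfsg.Agent.S1054.result (F := K) chevF4 (by simp)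
  obtain ⟨ζ, hζ⟩ := exists_unit (K := K) hd
  have hz := pow_unit (K := K) hζ
  obtain ⟨s, hs⟩ : ∃ s, s = hc tyF 0 ((ζ ^ (8 : ℤ) : Kˣ) : K) * hc tyF 1 ((ζ ^ (15 : ℤ) : Kˣ) : K) *
    (hc tyF 2 ((ζ ^ (21 : ℤ) : Kˣ) : K) * hc tyF 3 ((ζ ^ (11 : ℤ) : Kˣ) : K)) := ⟨_, rfl⟩
  have h0 : hc tyF 0 ((ζ ^ (8 : ℤ) : Kˣ) : K) ∈ TT chevF4 K := hc_mem tyF 0 (Units.ne_zero _)
  have h1 : hc tyF 1 ((ζ ^ (15 : ℤ) : Kˣ) : K) ∈ TT chevF4 K := hc_mem tyF 1 (Units.ne_zero _)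
  have h2 : hc tyF 2 ((ζ ^ (21 : ℤ) : Kˣ) : K) ∈ TT chevF4 K := hc_mem tyF 2 (Units.ne_zero _)
  have h3 : hc tyF 3 ((ζ ^ (11 : ℤ) : Kˣ) : K) ∈ TT chevF4 K := hc_mem tyF 3 (Units.ne_zero _)
  have hsT : s ∈ TT chevF4 K := hs ▸ mul_mem (mul_mem h0 h1) (mul_mem h2 h3)
  refine row3_of_torus tyF (by norm_num) hS Cfsg.Agent.Nodes.ChevChart.irrF vecF (by decide +kernel) hsT
    (fun q hq => ?_) hr (by omega) ?_
  · have e : ch tyF (vec chevF4 4 q) s = ((ζ ^ exF q : Kˣ) : K) := by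
      rw [hs, ch_mul tyF hq (mul_mem h0 h1) (mul_mem h2 h3), ch_mul tyF hq h0 h1, ch_mul tyF hq h2 h3,
        ch_hc tyF 0 (Units.ne_zero _) hq, ch_hc tyF 1 (Units.ne_zero _) hq,
        ch_hc tyF 2 (Units.ne_zero _) hq, ch_hc tyF 3 (Units.ne_zero _) hq, exF]
      push_cast
      rw [← zpow_mul, ← zpow_mul, ← zpow_mul, ← zpow_mul, ← zpow_add₀ (Units.ne_zero ζ),
        ← zpow_add₀ (Units.ne_zero ζ), ← zpow_add₀ (Units.ne_zero ζ)]
      rfl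
    rw [e]
    intro h7
    have h8 : ζ ^ exF q = 1 := Units.ext h7
    rw [← orderOf_dvd_iff_zpow_eq_one, hζ] at h8
    obtain ⟨h9, h10, h11⟩ := exF_tab q hq
    have h12 := Int.le_of_dvd (b := |exF q|) (by positivity) ((dvd_abs _ _).2 h8)
    have h13 : |exF q| ≤ 11 := abs_le.2 ⟨h10, h11⟩
    omega
  · have hcomm : ∀ {a b : ↥(chevF4.group K)}, a ∈ TT chevF4 K → b ∈ TT chevF4 K → Commute a b := fun {a b} ha hb =>
      congrArg Subtype.val (Cfsg.Agent.OddHalf.NI.ModelChev.comm_TT tyF ⟨a, ha⟩ ⟨b, hb⟩)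
    rw [hs, (hcomm (mul_mem h0 h1) (mul_mem h2 h3)).mul_pow, (hcomm h0 h1).mul_pow, (hcomm h2 h3).mul_pow,
      hc_pow_one tyF 0 (Units.ne_zero _) (hz 8), hc_pow_one tyF 1 (Units.ne_zero _) (hz 15),
      hc_pow_one tyF 2 (Units.ne_zero _) (hz 21), hc_pow_one tyF 3 (Units.ne_zero _) (hz 11), one_mul, one_mul]

/-! ### `G₂(q)` -/

/-- **`G₂(q)`, split torus.** -/
theorem row3_G2_prime {r : ℕ} (hr : r.Prime) (h7 : 7 ≤ r) (hd : r ∣ Nat.card K - 1) :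
    Row3 ↥(chevG2.group K) := by
  have hS : IsSimpleGroup ↥(chevG2.group K) ∧ ¬ IsMulCommutative ↥(chevG2.group K) := by
    refine Cfsg.Agent.S1055.result ?_
    classical
    have := Fintype.ofFinite K
    have h1 : 1 < Nat.card K := Finite.one_lt_card
    have h2 := Nat.le_of_dvd (by omega) hd
    by_contra hcon
    push Not at hcon
    have h4 : Fintype.card K ≤ 2 := by
      have h5 : (Finset.univ : Finset K) ⊆ {0, 1} := fun a _ => by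
        by_cases h6 : a = 0
        · simp [h6]
        · simp [hcon a h6]
      calc Fintype.card K = (Finset.univ : Finset K).card := rfl
        _ ≤ ({0, 1} : Finset K).card := Finset.card_le_card h5
        _ ≤ 2 := Finset.card_le_two
    rw [← Nat.card_eq_fintype_card] at h4
    omega
  obtain ⟨ζ, hζ⟩ := exists_unit (K := K) hd
  have hz := pow_unit (K := K) hζ
  obtain ⟨s, hs⟩ : ∃ s, s = hc tyG 0 ((ζ ^ (3 : ℤ) : Kˣ) : K) * hc tyG 1 ((ζ ^ (5 : ℤ) : Kˣ) : K) := ⟨_, rfl⟩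
  have h1 : hc tyG 0 ((ζ ^ (3 : ℤ) : Kˣ) : K) ∈ TT chevG2 K := hc_mem tyG 0 (Units.ne_zero _)
  have h2 : hc tyG 1 ((ζ ^ (5 : ℤ) : Kˣ) : K) ∈ TT chevG2 K := hc_mem tyG 1 (Units.ne_zero _)
  have hsT : s ∈ TT chevG2 K := hs ▸ mul_mem h1 h2
  refine row3_of_torus tyG (by norm_num) hS Cfsg.Agent.Nodes.ChevChart.irrG vecG (by decide +kernel) hsT
    (fun q hq => ?_) hr (by omega) ?_
  · have e : ch tyG (vec chevG2 2 q) s = ((ζ ^ ex q : Kˣ) : K) := by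
      rw [hs, ch_mul tyG hq h1 h2, ch_hc tyG 0 (Units.ne_zero _) hq, ch_hc tyG 1 (Units.ne_zero _) hq, ex]
      push_cast
      rw [← zpow_mul, ← zpow_mul, ← zpow_add₀ (Units.ne_zero ζ)]
      rfl
    rw [e]
    intro h7
    have h8 : ζ ^ ex q = 1 := Units.ext h7
    rw [← orderOf_dvd_iff_zpow_eq_one, hζ] at h8
    obtain ⟨h9, h10, h11⟩ := ex_tab q hq
    have h12 := Int.le_of_dvd (b := |ex q|) (by positivity) ((dvd_abs _ _).2 h8)
    have h13 : |ex q| ≤ 5 := abs_le.2 ⟨h10, h11⟩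
    omega
  · have hcomm : Commute (hc tyG 0 ((ζ ^ (3 : ℤ) : Kˣ) : K)) (hc tyG 1 ((ζ ^ (5 : ℤ) : Kˣ) : K)) :=
      congrArg Subtype.val (Cfsg.Agent.OddHalf.NI.ModelChev.comm_TT tyG ⟨_, h1⟩ ⟨_, h2⟩)
    rw [hs, hcomm.mul_pow, hc_pow_one tyG 0 (Units.ne_zero _) (hz 3), hc_pow_one tyG 1 (Units.ne_zero _) (hz 5), one_mul]

end Cfsg.Agent.H237.FQ
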